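import Groth.Agent.ThickAff.Nil
import Groth.Agent.ASp.Glue
import Groth.Agent.S10583
/-!
An algebraic space thickening a scheme is a scheme.
-/

set_option autoImplicit false
set_option backward.isDefEq.respectTransparency false
set_option backward.isDefEq.respectTransparency.types false

universe u

open CategoryTheory CategoryTheory.Limits AlgebraicGeometry Opposite

namespace Groth.Agent.ThickAff

open _root_.AlgSp Groth.Agent.ASp

variable {S : Scheme.{u}}

/-- An algebraic space thickening a scheme is a scheme. -/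
theorem exists_scheme_of_thick {X : Space S} {T : Over S} {j : (yon S).obj T ⟶ X.obj} (hj : IsThickMor j) :
    ∃ P : Over S, Nonempty ((yon S).obj P ≅ X.obj) := by
  -- affine opens of `T` lying over affine opens of `S`
  have hcov : ∀ t : ↥T.left, ∃ (O : S.Opens) (W : T.left.Opens), IsAffineOpen O ∧ IsAffineOpen W ∧ t ∈ W ∧
      ∀ y ∈ W, T.hom y ∈ O := fun t => by
    obtain ⟨O, hO, htO, -⟩ := exists_isAffineOpen_mem_and_subset (x := T.hom t) (U := (⊤ : S.Opens)) (by simp)
    obtain ⟨W, hW, htW, hWO⟩ := exists_isAffineOpen_mem_and_subset (x := t) (U := T.hom ⁻¹ᵁ O) htO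
    exact ⟨O, W, hO, hW, htW, fun y hy => hWO hy⟩
  choose O W hO hW htW hWO using hcov
  let Z : ↥T.left → Over S := fun t => Over.mk ((W t).ι ≫ T.hom)
  let z : ∀ t, Z t ⟶ T := fun t => Over.homMk (W t).ι rfl
  let Xt : Space S := ⟨(yon S).obj T, IsAlgSpace.yon_obj T⟩
  let jX : Xt ⟶ X := ObjectProperty.homMk j
  have key : ∀ t, ∃ (Q : Over S) (f : (yon S).obj Q ⟶ X.obj), RepWith @IsOpenImmersion f ∧
      ∃ k : (yon S).obj (Z t) ⟶ (yon S).obj Q, k ≫ f = (yon S).map (z t) ≫ j := by
    intro t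
    let Ut : Space S := ⟨(yon S).obj (Z t), IsAlgSpace.yon_obj _⟩
    let ut : Ut ⟶ Xt := ObjectProperty.homMk ((yon S).map (z t))
    obtain ⟨U', u', k, hu', sq⟩ := (Groth.Agent.S10583.result jX hj ut
      (repWith_yon_map (inferInstanceAs (IsOpenImmersion (W t).ι)))).1
    haveI : IsAffine (Z t).left := hW t
    have hk : IsThickMor k.hom := repWith_of_isPullback sq hj
    obtain ⟨Q, -, ⟨e⟩⟩ := exists_affine_of_thick (X := U') (hO t) (T := Z t) (by
      rintro _ ⟨y, rfl⟩
      exact hWO t ((W t).ι y) y.2) hk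
    refine ⟨Q, e.hom ≫ u'.hom, repWith_comp (P := @IsOpenImmersion) (repWith_of_isIso e.hom) hu', k.hom ≫ e.inv, ?_⟩
    rw [Category.assoc, e.inv_hom_id_assoc]
    exact sq.w.symm
  choose Q f hf k hk using key
  refine exists_scheme_of_openCover X.property Q f hf fun x => ?_
  obtain ⟨y, rfl⟩ := surjective_map_of_repWith (repWith_mono (fun _ _ _ h => h.2) hj) x
  obtain ⟨t, rfl⟩ := (Points.schemeHomeo T).surjective y
  refine ⟨t, Points.map (k t) (Points.schemeHomeo (Z t) ⟨t, htW t⟩), ?_⟩
  rw [← Points.map_comp, hk, Points.map_comp, Points.map_yon_map_apply]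
  rfl

end Groth.Agent.ThickAff
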