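import Groth.Agent.ThickAff.Sq
import Groth.Agent.ASp.SchImage
import Groth.Agent.ASp.AbsModel
import Groth.Agent.S3857
/-!
Algebraic spaces thickening affine schemes are affine.

The kernel of a thickening of an affine scheme is a union of invariant nilpotent ideals: for a finitely
generated ideal `L`, the largest invariant ideal below `L` is nilpotent and contains any finitely generated
ideal whose transport to the relation lies in the transport of `L`.
-/

set_option autoImplicit false
set_option backward.isDefEq.respectTransparency false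
set_option backward.isDefEq.respectTransparency.types false

universe u

open CategoryTheory CategoryTheory.Limits AlgebraicGeometry Opposite

namespace Groth.Agent.ThickAff

open _root_.AlgSp Groth.Agent.ASp

variable {S : Scheme.{u}}

theorem appTop_comp_eq {A B C D : Scheme.{u}} {f : A ⟶ B} {g : B ⟶ D} {h : A ⟶ C} {k : C ⟶ D}
    (e : f ≫ g = h ≫ k) (x : Γ(D, ⊤)) : f.appTop.hom (g.appTop.hom x) = h.appTop.hom (k.appTop.hom x) := by
  have := congrArg (fun m : A ⟶ D => m.appTop.hom x) e
  simpa only [Scheme.Hom.comp_appTop, CommRingCat.hom_comp, RingHom.comp_apply] using this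

theorem ker_appTop_eq_ideal {X Y : Scheme.{u}} [IsAffine Y] (f : X ⟶ Y) [QuasiCompact f] :
    RingHom.ker f.appTop.hom = f.ker.ideal ⟨⊤, isAffineOpen_top Y⟩ := by
  rw [Scheme.Hom.ker_apply]

/-- A finitely generated ideal below the kernel of a thickening is nilpotent. -/
theorem exists_pow_eq_bot {U V : Scheme.{u}} [IsAffine V] (i : U ⟶ V) (hi : Surjective i)
    {L : Ideal Γ(V, ⊤)} (hL : L.FG) (hle : L ≤ RingHom.ker i.appTop.hom) : ∃ n, L ^ n = ⊥ := by
  refine (Ideal.FG.isNilpotent_iff_le_nilradical hL).2 (hle.trans fun x hx => ?_)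
  rw [mem_nilradical, Scheme.isNilpotent_iff_basicOpen_eq_bot]
  refine TopologicalSpace.Opens.ext (Set.eq_empty_of_forall_notMem fun y hy => ?_)
  obtain ⟨z, rfl⟩ := hi.surj y
  have h1 : z ∈ i ⁻¹ᵁ V.basicOpen x := hy
  rw [Scheme.preimage_basicOpen_top, RingHom.mem_ker.1 hx, Scheme.basicOpen_zero] at h1
  exact h1

/-- A finite subset of the extension of an ideal is in the extension of a finitely generated subideal. -/
theorem exists_fg_map {A B : Type u} [CommRing A] [CommRing B] (f : A →+* B) (J : Ideal A) (s : Finset B)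
    (h : ∀ x ∈ s, x ∈ J.map f) : ∃ K : Ideal A, K.FG ∧ K ≤ J ∧ ∀ x ∈ s, x ∈ K.map f := by
  classical
  have hx : ∀ x ∈ s, ∃ t : Finset A, ↑t ⊆ (J : Set A) ∧ x ∈ (Ideal.span (t : Set A)).map f := by
    intro x hx
    obtain ⟨T, hT, hxT⟩ := Submodule.mem_span_finite_of_mem_span (h x hx)
    obtain ⟨t, ht, htT⟩ := Finset.subset_set_image_iff.1 hT
    refine ⟨t, ht, ?_⟩
    rw [Ideal.map_span]
    subst htT
    simpa using hxT
  choose t ht hxt using hx
  refine ⟨Ideal.span ((s.attach.biUnion fun x => t x.1 x.2 : Finset A) : Set A), ⟨_, rfl⟩, ?_, fun x hx => ?_⟩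
  · rw [Ideal.span_le]
    intro a ha
    simp only [Finset.coe_biUnion, Set.mem_iUnion] at ha
    obtain ⟨x, -, hax⟩ := ha
    exact ht _ _ hax
  · refine Ideal.map_mono (Ideal.span_mono ?_) (hxt x hx)
    intro a ha
    simp only [Finset.coe_biUnion, Set.mem_iUnion]
    exact ⟨⟨x, hx⟩, Finset.mem_attach _ _, ha⟩

/-- An invariant ideal below the kernel cuts out an intermediate thickening. -/
theorem exists_restrict {X : Space S} {T : Over S} {j : (yon S).obj T ⟶ X.obj} (hj : IsThickMor j)
    (c : Chart X.obj j) (I : c.V.left.IdealSheafData) (hI : IsInv c.p I) (hle : I ≤ c.uV.left.ker) :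
    ∃ (Y : Space S) (iY : Y.obj ⟶ X.obj) (j' : (yon S).obj T ⟶ Y.obj) (pY : (yon S).obj (subOver I) ⟶ Y.obj)
      (uI : c.U ⟶ subOver I), j' ≫ iY = j ∧ IsThickMor iY ∧ IsThickMor j' ∧
        IsPullback pY ((yon S).map (subInc I)) iY c.p ∧ RepWith @Etale pY ∧ RepWith @Surjective pY ∧
        uI ≫ subInc I = c.uV ∧ IsPullback ((yon S).map c.u) ((yon S).map uI) j' pY := by
  obtain ⟨Z, hZ, iY, hiY, hsub⟩ := exists_sub_of_isInv X.property c.etale c.surj hI
  haveI := c.etu
  haveI := c.suru
  haveI : Epi ((yon S).map c.u) := epi_of_etale_surjective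
    (repWith_yon_map (P := @Etale) c.etu) (repWith_yon_map (P := @Surjective) c.suru)
  obtain ⟨j', hj'⟩ := (exists_lift_iff_le_ker hiY hsub j ((yon S).map c.u) c.sq.w).2 hle
  obtain ⟨pY, sqY⟩ := hsub
  obtain ⟨uI, huI⟩ := (yon S).map_surjective (sqY.lift ((yon S).map c.u ≫ j') ((yon S).map c.uV)
    (by rw [Category.assoc, hj', c.sq.w]))
  have h1 : uI ≫ subInc I = c.uV := (yon S).map_injective (by rw [Functor.map_comp, huI, sqY.lift_snd])
  haveI : Mono iY := mono_of_repWith (P := @IsClosedImmersion) (fun g (hg : IsClosedImmersion g) => inferInstance) hiY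
  have hcart : IsPullback (𝟙 ((yon S).obj T)) j' j iY :=
    IsPullback.of_isLimit' ⟨by rw [Category.id_comp, hj']⟩
      (PullbackCone.IsLimit.mk _ (fun s => s.fst) (fun s => Category.comp_id _) (fun s => by
          rw [← cancel_mono iY, Category.assoc, hj']; exact s.condition)
        (fun s m e _ => (Category.comp_id m).symm.trans e))
  have hth' : IsThickMor j' := repWith_of_isPullback hcart hj
  have hsurj : RepWith @Surjective iY := (repWith_surjective_iff hiY.1).2 fun y => by
    obtain ⟨x, rfl⟩ := surjective_map_of_repWith (repWith_mono (fun _ _ _ h => h.2) hj) y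
    exact ⟨Points.map j' x, by rw [← Points.map_comp, hj']⟩
  refine ⟨⟨Z, hZ⟩, iY, j', pY, uI, hj', repWith_inf hiY hsurj, hth', sqY,
    repWith_of_isPullback sqY.flip c.etale, repWith_of_isPullback sqY.flip c.surj, h1, ?_⟩
  refine IsPullback.of_bot (h₃₁ := c.p) (v₂₁ := (yon S).map (subInc I)) (v₂₂ := iY) ?_ ?_ sqY
  · rw [← Functor.map_comp, h1, hj']; exact c.sq
  · rw [huI, sqY.lift_fst]

/-- An intermediate thickening which is affine gives a chart of the outer one. -/
theorem exists_chart_of_restrict {X : Space S} {T : Over S} {j : (yon S).obj T ⟶ X.obj} (c : Chart X.obj j)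
    {I : c.V.left.IdealSheafData} {Y : Sp S} {iY : Y ⟶ X.obj} (hiY : IsThickMor iY)
    {pY : (yon S).obj (subOver I) ⟶ Y} (sqY : IsPullback pY ((yon S).map (subInc I)) iY c.p)
    {Q : Over S} [IsAffine Q.left] (e : (yon S).obj Q ≅ Y) :
    IsThickMor (e.hom ≫ iY) ∧ ∃ c' : Chart X.obj (e.hom ≫ iY),
      ∀ n, (I.ideal ⟨⊤, haveI := c.affV; isAffineOpen_top _⟩) ^ n = ⊥ → RingHom.ker c'.uV.left.appTop.hom ^ n = ⊥ := by
  haveI := c.affV
  have hth : IsThickMor (e.hom ≫ iY) :=
    repWith_of_isPullback (IsPullback.of_horiz_isIso (fst := e.hom) (snd := e.hom ≫ iY) (f := iY) (g := 𝟙 _)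
      ⟨by simp⟩) hiY
  refine ⟨hth, ?_⟩
  obtain ⟨w, hw⟩ := (yon S).map_surjective (pY ≫ e.inv)
  have sq : IsPullback ((yon S).map w) ((yon S).map (subInc I)) (e.hom ≫ iY) c.p :=
    IsPullback.of_iso sqY (Iso.refl _) e.symm (Iso.refl _) (Iso.refl _)
      (by simp [hw]) (by simp) (by simp) (by simp)
  refine nonempty_chart hth c.etale c.surj sq
    (P := fun {U V} g => ∀ n, (I.ideal ⟨⊤, haveI := c.affV; isAffineOpen_top _⟩) ^ n = ⊥ →
      RingHom.ker g.left.appTop.hom ^ n = ⊥) ?_
  intro n hn
  show RingHom.ker I.subschemeι.appTop.hom ^ n = ⊥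
  rw [ker_appTop_eq_ideal, Scheme.IdealSheafData.ker_subschemeι]
  exact hn

/-- Finite order thickenings of affine schemes are affine. -/
theorem exists_affine_of_pow (k : ℕ) {X : Space S} {O : S.Opens} (hO : IsAffineOpen O) {T : Over S}
    [IsAffine T.left] (hT : Set.range T.hom ⊆ (O : Set S)) {j : (yon S).obj T ⟶ X.obj} (hj : IsThickMor j)
    (c : Chart X.obj j) (hJ : RingHom.ker c.uV.left.appTop.hom ^ (2 ^ k) = ⊥) :
    ∃ Q : Over S, IsAffine Q.left ∧ Nonempty ((yon S).obj Q ≅ X.obj) := by
  induction k generalizing T with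
  | zero =>
    refine exists_affine_of_sqZero hO hT c ?_
    rw [pow_zero, pow_one] at hJ
    rw [hJ, Ideal.bot_mul]
  | succ k ih =>
    haveI := c.affV
    haveI := c.affU
    haveI := c.thickU.1
    have hcl : RepWith @IsClosedImmersion j := repWith_mono (fun _ _ _ h => h.1) hj
    have hsub : IsSubIdeal j c.p c.uV.left.ker := by
      let e : c.U ≅ subOver c.uV.left.ker := Over.isoMk (asIso c.uV.left.toImage) (by
        show c.uV.left.toImage ≫ c.uV.left.imageι ≫ c.V.hom = c.U.hom
        rw [Scheme.Hom.toImage_imageι_assoc, Over.w])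
      refine ⟨(yon S).map (e.inv ≫ c.u), IsPullback.of_iso c.sq ((yon S).mapIso e) (Iso.refl _) (Iso.refl _)
        (Iso.refl _) (by simp) ?_ (by simp) (by simp)⟩
      simp only [Functor.mapIso_hom, Iso.refl_hom, Category.comp_id, ← (yon S).map_comp]
      congr 1
      exact Over.OverMorphism.ext (c.uV.left.toImage_imageι).symm
    have hinv := IsSubIdeal.isInv hcl hsub
    let I : c.V.left.IdealSheafData := c.uV.left.ker ^ 2
    have hI : IsInv c.p I := fun R r r' hr hr' h => by
      rw [S3857.comap_pow, S3857.comap_pow, hinv r r' hr hr' h]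
    have hIV : I.ideal ⟨⊤, isAffineOpen_top _⟩ = RingHom.ker c.uV.left.appTop.hom ^ 2 := by
      rw [ker_appTop_eq_ideal]
      simp [I]
    have hle : I ≤ c.uV.left.ker := fun O => by
      simp only [I, Scheme.IdealSheafData.ideal_pow, Pi.pow_apply]
      exact Ideal.pow_le_self two_ne_zero
    obtain ⟨Y, iY, j', pY, uI, hj', hiY, hth', sqY, hpe, hps, huI, sqU⟩ := exists_restrict hj c I hI hle
    haveI : IsAffine (subOver I).left := isAffine_of_closed I.subschemeι
    obtain ⟨c₁, hc₁⟩ := nonempty_chart hth' hpe hps sqU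
      (P := fun {U V} g => RingHom.ker g.left.appTop.hom * RingHom.ker g.left.appTop.hom = ⊥) (by
        have hsurj : Function.Surjective I.subschemeι.appTop.hom :=
          (IsClosedImmersion.isAffine_surjective_of_isAffine I.subschemeι).2
        have e : ∀ x, c.uV.left.appTop.hom x = uI.left.appTop.hom (I.subschemeι.appTop.hom x) := fun x => by
          rw [← huI]; simp [Scheme.Hom.comp_appTop]
        refine le_bot_iff.1 (Ideal.mul_le.2 fun a ha b hb => ?_)
        obtain ⟨a, rfl⟩ := hsurj a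
        obtain ⟨b, rfl⟩ := hsurj b
        rw [RingHom.mem_ker, ← e] at ha hb
        rw [Ideal.mem_bot]
        refine (RingHom.map_mul _ _ _).symm.trans ?_
        rw [← RingHom.mem_ker, ker_appTop_eq_ideal, Scheme.IdealSheafData.ker_subschemeι,
          hIV, pow_two]
        exact Ideal.mul_mem_mul ha hb)
    obtain ⟨Q, hQ, ⟨e⟩⟩ := exists_affine_of_sqZero hO hT c₁ hc₁
    haveI := hQ
    obtain ⟨hth, c', hc'⟩ := exists_chart_of_restrict c hiY sqY e
    refine ih (T := Q) ?_ hth c' (hc' _ (by rw [hIV, ← pow_mul, ← pow_succ']; exact hJ))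
    rintro _ ⟨x, rfl⟩
    obtain ⟨i, hi⟩ := (yon S).map_surjective (j' ≫ e.inv)
    have hs : Surjective i.left := by
      have h1 : RepWith @Surjective ((yon S).map i) := by
        rw [hi]
        exact repWith_comp (repWith_mono (fun _ _ _ h => h.2) hth') (repWith_of_isIso _)
      exact (repWith_yon_map_iff @Surjective i).1 h1
    obtain ⟨x₀, rfl⟩ := hs.surj x
    rw [← Scheme.Hom.comp_apply, Over.w i]
    exact hT ⟨x₀, rfl⟩

/-- An affine scheme of finite type over the integers has finitely many generators with finitely many relations. -/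
theorem exists_presentation (T' : Scheme.{u}) [IsAffine T'] [LocallyOfFinitePresentation (terminal.from T')] :
    ∃ (n : ℕ) (θ : MvPolynomial (Fin n) ℤ →+* Γ(T', ⊤)), Function.Surjective θ ∧ (RingHom.ker θ).FG := by
  haveI : IsAffine (⊤_ Scheme.{u}) := inferInstance
  let G := Γ((⊤_ Scheme.{u}), ⊤)
  have h1 : ((terminal.from T').appTop.hom).FiniteType :=
    (HasRingHomProperty.iff_of_isAffine (P := @LocallyOfFiniteType)).1 inferInstance
  have hG : Function.Surjective (Int.castRingHom G) := by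
    let e : ⊤_ Scheme.{u} ≅ Spec (CommRingCat.of (ULift.{u} ℤ)) :=
      terminalIsTerminal.uniqueUpToIso specULiftZIsTerminal.{u}
    let φ : CommRingCat.of (ULift.{u} ℤ) ≅ G :=
      (Scheme.ΓSpecIso _).symm ≪≫ asIso e.hom.appTop
    intro g
    refine ⟨(φ.inv g).down, ?_⟩
    have h : φ.hom.hom.comp (ULift.ringEquiv (R := ℤ)).symm.toRingHom = Int.castRingHom G := RingHom.ext_int _ _
    rw [← h]
    exact φ.inv_hom_id_apply g
  have h2 := h1.comp (RingHom.FiniteType.of_surjective _ hG)
  rw [RingHom.ext_int ((terminal.from T').appTop.hom.comp (Int.castRingHom G)) (algebraMap ℤ Γ(T', ⊤)),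
    RingHom.finiteType_algebraMap] at h2
  obtain ⟨n, θ, hθ⟩ := Algebra.FiniteType.iff_quotient_mvPolynomial''.1 h2
  exact ⟨n, θ.toRingHom, hθ, IsNoetherian.noetherian _⟩

/-- An algebraic space thickening an affine scheme lying over an affine open of the base is affine. -/
theorem exists_affine_of_thick {X : Space S} {O : S.Opens} (hO : IsAffineOpen O) {T : Over S} [IsAffine T.left]
    (hT : Set.range T.hom ⊆ (O : Set S)) {j : (yon S).obj T ⟶ X.obj} (hj : IsThickMor j) :
    ∃ Q : Over S, IsAffine Q.left ∧ Nonempty ((yon S).obj Q ≅ X.obj) := by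
  classical
  obtain ⟨c⟩ := exists_chart X.property hj
  haveI := c.affV
  haveI := c.affU
  haveI := c.affR
  haveI := c.affR0
  haveI := c.etu
  haveI := c.suru
  haveI := c.eta
  haveI := c.etb
  haveI := c.thickU.1
  haveI := c.thickR.1
  have hka : RingHom.ker c.iR.left.appTop.hom = (RingHom.ker c.uV.left.appTop.hom).map c.a.left.appTop.hom :=
    ker_appTop_of_isPullback (isPullback_left c.sqa)
  have hkb : RingHom.ker c.iR.left.appTop.hom = (RingHom.ker c.uV.left.appTop.hom).map c.b.left.appTop.hom :=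
    ker_appTop_of_isPullback (isPullback_left c.sqb)
  -- a model of the atlas over a scheme of finite type over the integers
  obtain ⟨T', W', π, w, q, hT', hW', hwe, hws, hlfp, sqM⟩ := exists_abs_model c.u.left
  haveI := hT'
  haveI := hW'
  haveI := hwe
  haveI := hws
  haveI := hlfp
  obtain ⟨n, θ, hθ, hθk⟩ := exists_presentation T'
  let f₀ : MvPolynomial (Fin n) ℤ →+* Γ(c.U.left, ⊤) := (c.u.left ≫ π).appTop.hom.comp θ
  choose lft hlft using (IsClosedImmersion.isAffine_surjective_of_isAffine c.uV.left).2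
  let Φ : MvPolynomial (Fin n) ℤ →+* Γ(c.V.left, ⊤) :=
    MvPolynomial.eval₂Hom (Int.castRingHom _) fun k => lft (f₀ (MvPolynomial.X k))
  have hΦ : ∀ x, c.uV.left.appTop.hom (Φ x) = f₀ x := by
    intro x
    have h : c.uV.left.appTop.hom.comp Φ = f₀ :=
      MvPolynomial.ringHom_ext' (RingHom.ext_int _ _) fun k => by simp [Φ, hlft]
    exact RingHom.congr_fun h x
  obtain ⟨rel, hrel⟩ := hθk
  let J := RingHom.ker c.uV.left.appTop.hom
  -- finitely generated ideals killing the obstructions
  obtain ⟨K₁, hK₁, hK₁J, hK₁d⟩ := exists_fg_map c.a.left.appTop.hom J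
    (Finset.univ.image fun k : Fin n =>
      c.a.left.appTop.hom (Φ (MvPolynomial.X k)) - c.b.left.appTop.hom (Φ (MvPolynomial.X k))) (by
      intro x hx
      simp only [Finset.mem_image, Finset.mem_univ, true_and] at hx
      obtain ⟨k, rfl⟩ := hx
      rw [← hka, RingHom.mem_ker, map_sub, ← appTop_comp_eq (congrArg CommaMorphism.left c.sqa.w),
        ← appTop_comp_eq (congrArg CommaMorphism.left c.sqb.w), hΦ, sub_eq_zero]
      simp only [f₀, RingHom.comp_apply, Scheme.Hom.comp_appTop, CommRingCat.hom_comp]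
      exact appTop_comp_eq (congrArg (fun m : pullback c.u c.u ⟶ T => m.left) pullback.condition) _)
  let K : Ideal Γ(c.V.left, ⊤) := K₁ ⊔ Ideal.span ((rel.image Φ : Finset _) : Set _)
  have hKfg : K.FG := Submodule.FG.sup hK₁ ⟨_, rfl⟩
  have hKJ : K ≤ J := sup_le hK₁J (Ideal.span_le.2 fun x hx => by
    simp only [Finset.coe_image, Set.mem_image] at hx
    obtain ⟨r, hr, rfl⟩ := hx
    show c.uV.left.appTop.hom (Φ r) = 0
    have hr' : θ r = 0 := RingHom.mem_ker.1 (hrel ▸ Ideal.subset_span hr)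
    rw [hΦ]
    simp [f₀, hr'])
  obtain ⟨gK, hgK⟩ := hKfg
  obtain ⟨L₁, hL₁, hL₁J, hL₁K⟩ := exists_fg_map c.b.left.appTop.hom J (gK.image c.a.left.appTop.hom) (by
    intro x hx
    simp only [Finset.mem_image] at hx
    obtain ⟨y, hy, rfl⟩ := hx
    rw [← hkb, hka]
    exact Ideal.mem_map_of_mem _ (hKJ (hgK ▸ Ideal.subset_span hy)))
  -- the closed subscheme of `L₁` and the largest invariant ideal below it
  let VL : Over S := Over.mk (toPt (CommRingCat.ofHom (Ideal.Quotient.mk L₁)) ≫ c.V.hom)
  let ι : VL ⟶ c.V := Over.homMk (toPt (CommRingCat.ofHom (Ideal.Quotient.mk L₁))) rfl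
  haveI : IsClosedImmersion ι.left := by
    haveI : IsClosedImmersion (Spec.map (CommRingCat.ofHom (Ideal.Quotient.mk L₁))) :=
      IsClosedImmersion.spec_of_surjective _ Ideal.Quotient.mk_surjective
    exact inferInstanceAs (IsClosedImmersion (_ ≫ _))
  haveI : IsAffine VL.left := isAffine_of_closed ι.left
  have hιk : RingHom.ker ι.left.appTop.hom = L₁ := by
    have e : ι.left.appTop ≫ (Scheme.ΓSpecIso _).hom = CommRingCat.ofHom (Ideal.Quotient.mk L₁) :=
      toPt_injective ((toPt_comp (Y := Spec _) (Scheme.ΓSpecIso _).hom ι.left).symm.trans (by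
        rw [show toPt (Y := Spec _) (Scheme.ΓSpecIso (CommRingCat.of (Γ(c.V.left, ⊤) ⧸ L₁))).hom = 𝟙 _ by
          rw [toPt, ← cancel_mono (Spec (CommRingCat.of (Γ(c.V.left, ⊤) ⧸ L₁))).isoSpec.hom, Category.assoc,
            Iso.inv_hom_id, Category.comp_id, Category.id_comp, Scheme.isoSpec_Spec_hom],
          Category.id_comp]
        rfl))
    ext x
    have h := congrArg (fun m => m.hom x) e
    simp only [CommRingCat.hom_comp, RingHom.comp_apply] at h
    rw [RingHom.mem_ker, ← Ideal.Quotient.eq_zero_iff_mem]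
    constructor
    · intro h0
      rw [h0, map_zero] at h
      exact h.symm
    · intro h0
      refine (ConcreteCategory.bijective_of_isIso (Scheme.ΓSpecIso _).hom).1 ?_
      rw [map_zero]
      exact h.trans h0
  have hP0 : IsPullback (pullback.fst ι c.b) (pullback.snd ι c.b) ι c.b := IsPullback.of_hasPullback _ _
  haveI : IsClosedImmersion (pullback.snd ι c.b).left :=
    MorphismProperty.of_isPullback (isPullback_left hP0) ‹IsClosedImmersion ι.left›
  haveI : IsAffine (pullback ι c.b).left := isAffine_of_closed (pullback.snd ι c.b).left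
  let z : pullback ι c.b ⟶ c.V := pullback.snd ι c.b ≫ c.a
  haveI : QuasiCompact z.left := by
    haveI : IsAffineHom z.left := isAffineHom_of_isAffine z.left
    infer_instance
  have sqz : IsPullback ((yon S).map (pullback.fst ι c.b)) ((yon S).map z) ((yon S).map ι ≫ c.p) c.p := by
    rw [Functor.map_comp]
    exact ((isPullback_yon_map hP0).flip.paste_horiz c.rel).flip
  let N : c.V.left.IdealSheafData := z.left.ker
  have hinv : IsInv c.p N := fun R r r' hr hr' h =>
    haveI := hr
    haveI := hr'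
    comap_ker_eq sqz r r' h
  have hNK : K ≤ RingHom.ker z.left.appTop.hom := by
    rw [← hgK]
    refine Ideal.span_le.2 fun x hx => ?_
    show z.left.appTop.hom x = 0
    simp only [z, Over.comp_left, Scheme.Hom.comp_appTop, CommRingCat.hom_comp, RingHom.comp_apply]
    rw [← RingHom.mem_ker]
    refine (Ideal.map_le_iff_le_comap.2 ?_) (hL₁K _ (Finset.mem_image_of_mem _ hx))
    intro y hy
    rw [Ideal.mem_comap, RingHom.mem_ker, ← appTop_comp_eq (congrArg CommaMorphism.left hP0.w),
      show ι.left.appTop.hom y = 0 from by rw [← RingHom.mem_ker, hιk]; exact hy, map_zero]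
  have hδ := (c.exists_hom_iff VL ι ι).2 rfl
  obtain ⟨δ, hδa, hδb⟩ := hδ
  let σ : VL ⟶ pullback ι c.b := hP0.lift (𝟙 _) δ (by rw [Category.id_comp, hδb])
  have hσ : σ ≫ z = ι := by rw [← Category.assoc, hP0.lift_snd, hδa]
  have hNL : RingHom.ker z.left.appTop.hom ≤ L₁ := by
    have hσ' : ι.left = σ.left ≫ z.left := (congrArg CommaMorphism.left hσ).symm
    rw [← hιk]
    intro x hx
    rw [RingHom.mem_ker] at hx ⊢
    rw [hσ']
    simp [Scheme.Hom.comp_appTop, hx]
  have hNle : N ≤ c.uV.left.ker := by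
    let l : c.U ⟶ VL := Over.homMk (c.U.left.isoSpec.hom ≫ Spec.map (CommRingCat.ofHom
      (Ideal.Quotient.lift L₁ c.uV.left.appTop.hom fun x hx => RingHom.mem_ker.1 (hL₁J hx)))) (by
      show (c.U.left.isoSpec.hom ≫ Spec.map _) ≫ (Spec.map _ ≫ c.V.left.isoSpec.inv) ≫ c.V.hom = c.U.hom
      simp only [Category.assoc, ← Spec.map_comp_assoc, ← CommRingCat.ofHom_comp, Ideal.Quotient.lift_comp_mk,
        CommRingCat.ofHom_hom, Scheme.isoSpec_inv_naturality_assoc, Iso.hom_inv_id_assoc, Over.w])
    have hl : l ≫ ι = c.uV := Over.OverMorphism.ext (by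
      show (c.U.left.isoSpec.hom ≫ Spec.map _) ≫ Spec.map _ ≫ c.V.left.isoSpec.inv = c.uV.left
      simp only [Category.assoc, ← Spec.map_comp_assoc, ← CommRingCat.ofHom_comp, Ideal.Quotient.lift_comp_mk,
        CommRingCat.ofHom_hom, Scheme.isoSpec_inv_naturality, Iso.hom_inv_id_assoc])
    have hσ' : c.uV.left = (l ≫ σ).left ≫ z.left := by
      exact (congrArg CommaMorphism.left (by rw [Category.assoc, hσ, hl] : (l ≫ σ) ≫ z = c.uV)).symm
    rw [hσ']
    exact Scheme.Hom.le_ker_comp _ _
  obtain ⟨Y, iY, j', pY, uI, hj', hiY, hth', sqY, hpe, hps, huI, sqU⟩ := exists_restrict hj c N hinv hNle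
  let VN : Over S := subOver N
  haveI : IsAffine VN.left := isAffine_of_closed N.subschemeι
  let ρ : VN ⟶ c.V := subInc N
  have hρ : ∀ x ∈ K, ρ.left.appTop.hom x = 0 := fun x hx => by
    rw [← RingHom.mem_ker, show RingHom.ker ρ.left.appTop.hom = N.ideal ⟨⊤, isAffineOpen_top _⟩ by
      rw [show ρ.left = N.subschemeι from rfl, ker_appTop_eq_ideal, Scheme.IdealSheafData.ker_subschemeι],
      ← ker_appTop_eq_ideal]
    exact hNK hx
  -- the map to the model
  let χ : Γ(T', ⊤) →+* Γ(VN.left, ⊤) :=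
    RingHom.liftOfSurjective θ hθ ⟨ρ.left.appTop.hom.comp Φ, by
      rw [← hrel, Ideal.span_le]
      intro r hr
      show ρ.left.appTop.hom (Φ r) = 0
      exact hρ _ (Ideal.mem_sup_right (Ideal.subset_span (Finset.mem_coe.2 (Finset.mem_image_of_mem _ hr))))⟩
  have hχ : ∀ x, χ (θ x) = ρ.left.appTop.hom (Φ x) := fun x => RingHom.liftOfRightInverse_comp_apply _ _ _ _ x
  let γ' : VN.left ⟶ T' := VN.left.isoSpec.hom ≫ toPt (CommRingCat.ofHom χ)
  have hγ' : ∀ x, γ'.appTop.hom x = χ x := by
    intro x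
    have h : CommRingCat.ofHom χ = γ'.appTop := by
      apply toPt_injective
      refine (Iso.cancel_iso_hom_left VN.left.isoSpec _ _).1 ?_
      show γ' = _
      rw [toPt, ← Category.assoc, Scheme.isoSpec_hom_naturality, Category.assoc, Iso.hom_inv_id, Category.comp_id]
    rw [← h]; rfl
  let O' : Scheme.{u} := O
  haveI : IsAffine O' := hO
  let TS : Over S := Over.mk (pullback.snd (terminal.from T') (terminal.from O') ≫ O.ι)
  haveI : IsAffine TS.left := inferInstanceAs (IsAffine (pullback (terminal.from T') (terminal.from O')))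
  let τ : TS.left ⟶ T' := pullback.fst _ _
  have hTSext : ∀ {W : Over S} {f g : W ⟶ TS}, f.left ≫ τ = g.left ≫ τ → f = g := fun {W f g} h =>
    Over.OverMorphism.ext (pullback.hom_ext h ((cancel_mono O.ι).1 (by
      rw [Category.assoc, Category.assoc]
      exact (Over.w f).trans (Over.w g).symm)))
  have hVNr : Set.range VN.hom ⊆ Set.range O.ι := by
    rw [Scheme.Opens.range_ι]
    rintro _ ⟨x, rfl⟩
    exact c.range_subset hT ⟨ρ.left x, rfl⟩
  let γ : VN ⟶ TS := Over.homMk (pullback.lift γ' (IsOpenImmersion.lift O.ι VN.hom hVNr) (terminal.hom_ext _ _)) (by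
    show pullback.lift _ _ _ ≫ pullback.snd _ _ ≫ O.ι = _
    rw [pullback.lift_snd_assoc, IsOpenImmersion.lift_fac])
  have hTr : Set.range T.hom ⊆ Set.range O.ι := by rw [Scheme.Opens.range_ι]; exact hT
  let πS : T ⟶ TS := Over.homMk (pullback.lift π (IsOpenImmersion.lift O.ι T.hom hTr) (terminal.hom_ext _ _)) (by
    show pullback.lift _ _ _ ≫ pullback.snd _ _ ≫ O.ι = _
    rw [pullback.lift_snd_assoc, IsOpenImmersion.lift_fac])
  obtain ⟨RN, a', b', hRN⟩ := exists_isPullback_yon hpe.1 pY
  have hab : a' ≫ γ = b' ≫ γ := hTSext (by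
    show a'.left ≫ pullback.lift _ _ _ ≫ pullback.fst _ _ = b'.left ≫ pullback.lift _ _ _ ≫ pullback.fst _ _
    rw [pullback.lift_fst]
    obtain ⟨k, hk1, hk2⟩ := (c.exists_hom_iff RN (a' ≫ ρ) (b' ≫ ρ)).2 (by
      rw [Functor.map_comp, Functor.map_comp, Category.assoc, Category.assoc, ← sqY.w, reassoc_of% hRN.w])
    refine ext_of_isAffine ?_
    apply CommRingCat.hom_ext
    refine (RingHom.cancel_right hθ).1 (MvPolynomial.ringHom_ext' (RingHom.ext_int _ _) fun i => ?_)
    simp only [Scheme.Hom.comp_appTop, CommRingCat.hom_comp, RingHom.comp_apply]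
    erw [hγ', hχ]
    rw [← appTop_comp_eq (congrArg CommaMorphism.left hk1), ← appTop_comp_eq (congrArg CommaMorphism.left hk2),
      ← sub_eq_zero, ← map_sub, ← RingHom.mem_ker]
    refine (Ideal.map_le_iff_le_comap.2 ?_) (hK₁d _ (Finset.mem_image_of_mem _ (Finset.mem_univ i)))
    intro y hy
    rw [Ideal.mem_comap, RingHom.mem_ker, appTop_comp_eq (congrArg CommaMorphism.left hk1),
      hρ y (Ideal.mem_sup_left hy), map_zero])
  haveI : Epi pY := epi_of_etale_surjective hpe hps
  obtain ⟨g, hg⟩ := exists_desc_of_epi pY hRN ((yon S).map γ) (by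
    rw [← Functor.map_comp, ← Functor.map_comp, hab])
  let WS : Over S := Over.mk (pullback.snd w τ ≫ TS.hom)
  let wS : WS ⟶ TS := Over.homMk (pullback.snd w τ) rfl
  haveI : IsAffine WS.left := inferInstanceAs (IsAffine (pullback w τ))
  haveI : Etale wS.left := inferInstanceAs (Etale (pullback.snd w τ))
  haveI : Surjective wS.left := inferInstanceAs (Surjective (pullback.snd w τ))
  have hπτ : πS.left ≫ τ = π := pullback.lift_fst _ _ _
  let qS : c.U ⟶ WS := Over.homMk (pullback.lift q (c.u ≫ πS).left (by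
      rw [sqM.w, Over.comp_left, Category.assoc, hπτ])) (by
    show pullback.lift _ _ _ ≫ pullback.snd _ _ ≫ TS.hom = _
    rw [pullback.lift_snd_assoc]
    exact Over.w (c.u ≫ πS))
  have sqT : IsPullback qS c.u wS πS := by
    refine isPullback_over (Over.OverMorphism.ext (pullback.lift_snd _ _ _)) ?_
    refine IsPullback.of_right ?_ (pullback.lift_snd _ _ _) (IsPullback.of_hasPullback w τ)
    show IsPullback (pullback.lift q _ _ ≫ pullback.fst w τ) c.u.left w (πS.left ≫ τ)
    rw [pullback.lift_fst, hπτ]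
    exact sqM
  haveI : Epi ((yon S).map c.u) := epi_of_etale_surjective
    (repWith_yon_map (P := @Etale) c.etu) (repWith_yon_map (P := @Surjective) c.suru)
  have hjg : j' ≫ g = (yon S).map πS := by
    rw [← cancel_epi ((yon S).map c.u), reassoc_of% sqU.w, hg, ← Functor.map_comp, ← Functor.map_comp]
    refine congrArg _ (hTSext ?_)
    simp only [Over.comp_left, Category.assoc, hπτ]
    show uI.left ≫ pullback.lift _ _ _ ≫ pullback.fst _ _ = _
    rw [pullback.lift_fst]
    refine ext_of_isAffine ?_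
    apply CommRingCat.hom_ext
    refine (RingHom.cancel_right hθ).1 (MvPolynomial.ringHom_ext' (RingHom.ext_int _ _) fun i => ?_)
    simp only [Scheme.Hom.comp_appTop, CommRingCat.hom_comp, RingHom.comp_apply]
    erw [hγ', hχ]
    have h := hΦ (MvPolynomial.X i)
    rw [← huI] at h
    simp only [f₀, RingHom.comp_apply, Scheme.Hom.comp_appTop, CommRingCat.hom_comp, Over.comp_left] at h
    exact h
  have hthU : MoreMor.IsThickening uI.left := hth'.2 _ _ uI sqU
  obtain ⟨Q, hQ, ⟨e⟩⟩ := exists_affine_of_model hpe hps sqU hthU sqT hjg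
  haveI := hQ
  obtain ⟨hth, c', hc'⟩ := exists_chart_of_restrict c hiY sqY e
  obtain ⟨m, hm⟩ := exists_pow_eq_bot c.uV.left c.thickU.2 hL₁ hL₁J
  refine exists_affine_of_pow m hO ?_ hth c' (hc' _ ?_)
  · rintro _ ⟨x, rfl⟩
    obtain ⟨i, hi⟩ := (yon S).map_surjective (j' ≫ e.inv)
    have hs : Surjective i.left := by
      have h1 : RepWith @Surjective ((yon S).map i) := by
        rw [hi]
        exact repWith_comp (repWith_mono (fun _ _ _ h => h.2) hth') (repWith_of_isIso _)
      exact (repWith_yon_map_iff @Surjective i).1 h1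
    obtain ⟨x₀, rfl⟩ := hs.surj x
    rw [← Scheme.Hom.comp_apply, Over.w i]
    exact hT ⟨x₀, rfl⟩
  · refine le_bot_iff.1 ((Ideal.pow_right_mono ?_ (2 ^ m)).trans
      ((Ideal.pow_le_pow_right (Nat.lt_two_pow_self).le).trans hm.le))
    rw [← ker_appTop_eq_ideal]
    exact hNL

end Groth.Agent.ThickAff
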