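import Groth.Agent.ASp.ThickBase
import Groth.Agent.ASp.ClosedIdeal
import Groth.Agent.ASp.BaseDesc
import Groth.Agent.ASp.Morph
import Groth.Agent.ASp.QcAtlas
import Groth.Agent.TopInv.Basic
import Groth.Agent.IdealStalkLib.Comap
import Groth.Agent.EffDescLib.Basic
import Groth.Agent.S10533
import Groth.Agent.S0440
/-!
Algebraic spaces thickening affine schemes: atlases, and affineness from a model of the atlas.
-/

set_option autoImplicit false
set_option backward.isDefEq.respectTransparency false
set_option backward.isDefEq.respectTransparency.types false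

universe u

open CategoryTheory CategoryTheory.Limits AlgebraicGeometry Opposite

namespace Groth.Agent.ThickAff

open _root_.AlgSp Groth.Agent.ASp

variable {S : Scheme.{u}}

theorem isPullback_over {A B C D : Over S} {a : A ⟶ B} {b : A ⟶ C} {c : B ⟶ D} {d : C ⟶ D}
    (w : a ≫ c = b ≫ d) (h : IsPullback a.left b.left c.left d.left) : IsPullback a b c d :=
  IsPullback.of_map (Over.forget S) w h

/-- A scheme with a thickening by an affine scheme is affine. -/
theorem isAffine_of_thick {X X' : Scheme.{u}} (t : X ⟶ X') (ht : MoreMor.IsThickening t) [IsAffine X] : IsAffine X' := by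
  haveI := ht.1
  exact Groth.Agent.S0440.result t ht.2.surj

/-- A closed subscheme of an affine scheme is affine. -/
theorem isAffine_of_closed {X X' : Scheme.{u}} (t : X ⟶ X') [IsClosedImmersion t] [IsAffine X'] : IsAffine X :=
  (IsClosedImmersion.isAffine_surjective_of_isAffine t).1

/-- The ideal of an inverse image of a closed subscheme of an affine scheme. -/
theorem ker_appTop_of_isPullback {Z X Z' X' : Scheme.{u}} [IsAffine X] [IsAffine X'] {i : Z ⟶ X}
    [IsClosedImmersion i] {i' : Z' ⟶ X'} {p : X' ⟶ X} {q : Z' ⟶ Z} (h : IsPullback q i' i p) :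
    RingHom.ker i'.appTop.hom = (RingHom.ker i.appTop.hom).map p.appTop.hom := by
  haveI : IsClosedImmersion i' := MorphismProperty.of_isPullback h ‹IsClosedImmersion i›
  have hk : i.ker.comap p = i'.ker := by
    rw [← Scheme.IdealSheafData.ker_fst_of_isClosedImmersion, ← h.flip.isoPullback_hom_fst,
      Scheme.Hom.ker_comp_of_isIso]
  have := congrArg (fun K : X'.IdealSheafData => K.ideal ⟨⊤, isAffineOpen_top _⟩) hk
  simp only [Groth.Agent.IdealStalkLib.comap_ideal i.ker p (isAffineOpen_top X) (isAffineOpen_top X') le_top,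
    Scheme.Hom.ker_apply] at this
  rw [Scheme.Hom.appLE] at this
  simpa using this.symm

/-- An algebraic space thickening an affine scheme has an affine etale atlas. -/
theorem exists_chart_of_thick {X : Sp S} (hX : IsAlgSpace X) {T : Over S} [IsAffine T.left]
    {j : (yon S).obj T ⟶ X} (hj : IsThickMor j) :
    ∃ (V : Over S) (p : (yon S).obj V ⟶ X),
      IsAffine V.left ∧ RepWith @Etale p ∧ RepWith @Surjective p := by
  haveI : CompactSpace (Points X) := ⟨by
    rw [← (surjective_ofPt (repWith_mono (fun _ _ _ h => h.2) hj)).range_eq]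
    exact isCompact_range (Points.continuous_ofPt j)⟩
  exact exists_affine_chart hX

/-- An algebraic space thickening an affine scheme is affine if the atlas of the thinner scheme comes
from an etale cover of an affine scheme through which the inclusion factors. -/
theorem exists_affine_of_model {Y : Space S} {T V U : Over S} [IsAffine V.left]
    {j : (yon S).obj T ⟶ Y.obj} {pY : (yon S).obj V ⟶ Y.obj} (hpe : RepWith @Etale pY)
    (hps : RepWith @Surjective pY) {u : U ⟶ T} {uV : U ⟶ V}
    (sq : IsPullback ((yon S).map u) ((yon S).map uV) j pY) (huV : MoreMor.IsThickening uV.left)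
    {TS WS : Over S} [IsAffine TS.left] [IsAffine WS.left] {wS : WS ⟶ TS} [Etale wS.left] [Surjective wS.left]
    {g : Y.obj ⟶ (yon S).obj TS} {qS : U ⟶ WS} {πS : T ⟶ TS} (sqT : IsPullback qS u wS πS)
    (hg : j ≫ g = (yon S).map πS) :
    ∃ Q : Over S, IsAffine Q.left ∧ Nonempty ((yon S).obj Q ≅ Y.obj) := by
  haveI := huV.1
  haveI := huV.2
  obtain ⟨γ, hγ⟩ := (yon S).map_surjective (pY ≫ g)
  have huγ : uV ≫ γ = u ≫ πS := (yon S).map_injective (by
    rw [Functor.map_comp, Functor.map_comp, hγ, ← reassoc_of% sq.w, hg])
  obtain ⟨l₀, hl₁, hl₂⟩ := Groth.Agent.TopInv.exists_desc wS.left γ.left uV.left qS.left (by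
    rw [← Over.comp_left, ← Over.comp_left, sqT.w, huγ])
  let l : V ⟶ WS := Over.homMk l₀ (by rw [← Over.w wS, ← Category.assoc, hl₁, Over.w])
  have hlw : l ≫ wS = γ := Over.OverMorphism.ext hl₁
  have hlu : uV ≫ l = qS := Over.OverMorphism.ext hl₂
  obtain ⟨RY, a, b, hRY⟩ := exists_isPullback_yon hpe.1 pY
  have hab : a ≫ γ = b ≫ γ := (yon S).map_injective (by
    rw [Functor.map_comp, Functor.map_comp, hγ, reassoc_of% hRY.w])
  have hP : IsPullback (pullback.snd γ wS) (pullback.fst γ wS) wS γ := (IsPullback.of_hasPullback γ wS).flip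
  let h : RY ⟶ pullback γ wS := pullback.lift a (b ≫ l) (by rw [Category.assoc, hlw, hab])
  have hR : IsPullback (pullback.snd u u) (pullback.fst u u) u u := (IsPullback.of_hasPullback u u).flip
  have big : IsPullback ((yon S).map (pullback.snd u u ≫ uV)) ((yon S).map (pullback.fst u u)) pY
      ((yon S).map uV ≫ pY) := by
    rw [← sq.w, Functor.map_comp]
    exact (isPullback_yon_map hR).paste_horiz sq.flip
  obtain ⟨iR, hiR⟩ := (yon S).map_surjective (hRY.lift ((yon S).map (pullback.fst u u ≫ uV))
    ((yon S).map (pullback.snd u u ≫ uV)) (by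
      rw [big.w, Functor.map_comp, Category.assoc]))
  have hiRa : iR ≫ a = pullback.fst u u ≫ uV := (yon S).map_injective (by
    rw [Functor.map_comp, hiR, hRY.lift_fst])
  have hiRb : iR ≫ b = pullback.snd u u ≫ uV := (yon S).map_injective (by
    rw [Functor.map_comp, hiR, hRY.lift_snd])
  have s1 : IsPullback iR (pullback.fst u u) a uV := by
    refine isPullback_of_yon_map (IsPullback.of_right (h₁₂ := (yon S).map b) ?_ ?_ hRY.flip)
    · rw [← Functor.map_comp, hiRb]; exact big
    · rw [← Functor.map_comp, ← Functor.map_comp, hiRa]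
  have s2 : IsPullback (iR ≫ h) (pullback.fst u u) (pullback.fst γ wS) uV := by
    refine IsPullback.of_right (h₁₂ := pullback.snd γ wS) ?_ ?_ hP
    · rw [Category.assoc, pullback.lift_snd, reassoc_of% hiRb, hlu, huγ]
      exact hR.paste_horiz sqT
    · rw [Category.assoc, pullback.lift_fst, hiRa]
  have sl1 := isPullback_left s1
  have sl2 := isPullback_left s2
  haveI : Surjective iR.left := MorphismProperty.of_isPullback sl1.flip huV.2
  haveI : Surjective (iR ≫ h).left := MorphismProperty.of_isPullback sl2.flip huV.2
  haveI : IsClosedImmersion (iR ≫ h).left := MorphismProperty.of_isPullback sl2.flip huV.1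
  haveI : Etale a.left := hpe.2 _ _ _ hRY.flip
  haveI : Etale (pullback.fst γ wS).left :=
    MorphismProperty.of_isPullback (isPullback_left hP) ‹Etale wS.left›
  haveI : Etale h.left := by
    haveI : Etale (h.left ≫ (pullback.fst γ wS).left) := by
      rw [← Over.comp_left, pullback.lift_fst]; infer_instance
    exact Etale.of_comp h.left (pullback.fst γ wS).left
  haveI : UniversallyInjective h.left := by
    haveI : UniversallyInjective (iR.left ≫ h.left) := inferInstanceAs (UniversallyInjective (iR ≫ h).left)
    exact Groth.Agent.TopInv.universallyInjective_of_precomp_surjective iR.left h.left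
  haveI : Surjective h.left := by
    haveI : Surjective (iR.left ≫ h.left) := inferInstanceAs (Surjective (iR ≫ h).left)
    exact Surjective.of_comp iR.left h.left
  haveI : IsIso ((Over.forget S).map h) := Groth.Agent.TopInv.isIso_of_etale h.left
  haveI : IsIso h := isIso_of_reflects_iso h (Over.forget S)
  -- the model pulled back to `Y`
  let hQ := IsPullback.of_hasPullback g ((yon S).map wS)
  let lam := hQ.lift pY ((yon S).map l) (by rw [← Functor.map_comp, hlw, hγ])
  haveI : Mono lam := by
    refine ⟨fun {F} x y e => ?_⟩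
    have e1 : x ≫ pY = y ≫ pY := by simpa [lam, hQ.lift_fst] using congrArg (· ≫ pullback.fst g _) e
    have e2 : x ≫ (yon S).map l = y ≫ (yon S).map l := by
      simpa [lam, hQ.lift_snd] using congrArg (· ≫ pullback.snd g _) e
    have key : hRY.lift x y e1 = hRY.lift x x rfl := by
      rw [← cancel_mono ((yon S).map h)]
      refine (isPullback_yon_map hP).hom_ext ?_ ?_
      · simp only [Category.assoc, ← Functor.map_comp, h, pullback.lift_snd]
        simp only [Functor.map_comp]
        rw [hRY.lift_snd_assoc, hRY.lift_snd_assoc, e2]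
      · simp only [Category.assoc, ← Functor.map_comp, h, pullback.lift_fst]
        rw [hRY.lift_fst, hRY.lift_fst]
    have := congrArg (· ≫ (yon S).map b) key
    simpa [hRY.lift_snd] using this.symm
  haveI : Epi lam := by
    let c := hQ.lift ((yon S).map (pullback.fst γ wS) ≫ pY) ((yon S).map (pullback.snd γ wS)) (by
      rw [Category.assoc, ← hγ, ← Functor.map_comp, ← Functor.map_comp, pullback.condition])
    have sc : IsPullback c ((yon S).map (pullback.fst γ wS)) (pullback.fst g ((yon S).map wS)) pY := by
      refine IsPullback.of_right (h₁₂ := pullback.snd g ((yon S).map wS)) ?_ (hQ.lift_fst _ _ _) hQ.flip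
      rw [hQ.lift_snd, ← hγ]
      exact isPullback_yon_map hP
    haveI : Epi c := epi_of_etale_surjective (repWith_of_isPullback sc.flip hpe)
      (repWith_of_isPullback sc.flip hps)
    have e : (yon S).map b ≫ lam = (yon S).map h ≫ c := by
      refine hQ.hom_ext ?_ ?_
      · rw [Category.assoc, Category.assoc, hQ.lift_fst, hQ.lift_fst, ← Functor.map_comp_assoc,
          pullback.lift_fst, hRY.w]
      · rw [Category.assoc, Category.assoc, hQ.lift_snd, hQ.lift_snd, ← Functor.map_comp,
          ← Functor.map_comp, pullback.lift_snd]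
    haveI : Epi ((yon S).map b ≫ lam) := by rw [e]; infer_instance
    exact epi_of_epi ((yon S).map b) lam
  haveI : IsIso lam := isIso_of_mono_of_epi lam
  have sqV : IsPullback pY ((yon S).map l) g ((yon S).map wS) :=
    IsPullback.of_iso hQ (asIso lam).symm (Iso.refl _) (Iso.refl _) (Iso.refl _)
      (by simp [lam, hQ.lift_fst]) (by simp [lam, hQ.lift_snd]) (by simp) (by simp)
  haveI : IsAffineHom l.left := isAffineHom_of_isAffine l.left
  have hga : IsAffineMor g := ASp.of_chart (Groth.Agent.S10533.result S)
    (X := Y) (Y := ⟨_, IsAlgSpace.yon_obj TS⟩) (ObjectProperty.homMk g)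
    (repWith_yon_map (P := @Etale) ‹Etale wS.left›) (repWith_yon_map (P := @Surjective) ‹Surjective wS.left›)
    sqV (isAffineMor_of_repWith (fun _ h => h) (repWith_yon_map (P := @IsAffineHom) ‹IsAffineHom l.left›))
  obtain ⟨Q, iQ, fst, hQ', hQa⟩ := hga (Z := TS) inferInstance (𝟙 _)
  exact ⟨Q, hQa, ⟨@asIso _ _ _ _ fst hQ'.isIso_fst_of_isIso⟩⟩

end Groth.Agent.ThickAff
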