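import Groth.Agent.ThickAff.Core
/-!
The relation of an affine atlas of a thickening of an affine scheme.
-/

set_option autoImplicit false
set_option backward.isDefEq.respectTransparency false
set_option backward.isDefEq.respectTransparency.types false

universe u

open CategoryTheory CategoryTheory.Limits AlgebraicGeometry Opposite

namespace Groth.Agent.ThickAff

open _root_.AlgSp Groth.Agent.ASp

variable {S : Scheme.{u}}

/-- An affine etale atlas of a space thickening an affine scheme, with its inverse image and relation. -/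
structure Chart (X : Sp S) {T : Over S} (j : (yon S).obj T ⟶ X) where
  /-- The atlas. -/
  V : Over S
  /-- Its map. -/
  p : (yon S).obj V ⟶ X
  /-- The inverse image. -/
  U : Over S
  /-- Its projection. -/
  u : U ⟶ T
  /-- Its inclusion. -/
  uV : U ⟶ V
  /-- The relation. -/
  R : Over S
  /-- The first projection. -/
  a : R ⟶ V
  /-- The second projection. -/
  b : R ⟶ V
  /-- The inverse image of the relation. -/
  iR : pullback u u ⟶ R
  sq : IsPullback ((yon S).map u) ((yon S).map uV) j p
  rel : IsPullback ((yon S).map a) ((yon S).map b) p p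
  sqa : IsPullback (pullback.fst u u) iR uV a
  sqb : IsPullback (pullback.snd u u) iR uV b
  etale : RepWith @Etale p
  surj : RepWith @Surjective p
  affV : IsAffine V.left
  affU : IsAffine U.left
  affR0 : IsAffine (pullback u u).left
  affR : IsAffine R.left
  etu : Etale u.left
  suru : Surjective u.left
  thickU : MoreMor.IsThickening uV.left
  thickR : MoreMor.IsThickening iR.left
  eta : Etale a.left
  etb : Etale b.left

/-- Every affine atlas gives a chart. -/
theorem nonempty_chart {X : Sp S} {T : Over S} [IsAffine T.left] {j : (yon S).obj T ⟶ X} (hj : IsThickMor j)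
    {V : Over S} [IsAffine V.left] {p : (yon S).obj V ⟶ X} (hpe : RepWith @Etale p)
    (hps : RepWith @Surjective p) {U : Over S} {u : U ⟶ T} {uV : U ⟶ V}
    (sq : IsPullback ((yon S).map u) ((yon S).map uV) j p)
    {P : ∀ {U V : Over S}, (U ⟶ V) → Prop} (hP : P uV) :
    ∃ c : Chart X j, P c.uV := by
  have huV : MoreMor.IsThickening uV.left := hj.2 p _ uV sq
  haveI := huV.1
  haveI hU : IsAffine U.left := isAffine_of_closed uV.left
  obtain ⟨R, a, b, hRel⟩ := exists_isPullback_yon hpe.1 p
  have hR : IsPullback (pullback.snd u u) (pullback.fst u u) u u := (IsPullback.of_hasPullback u u).flip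
  have big : IsPullback ((yon S).map (pullback.snd u u ≫ uV)) ((yon S).map (pullback.fst u u)) p
      ((yon S).map uV ≫ p) := by
    rw [← sq.w, Functor.map_comp]
    exact (isPullback_yon_map hR).paste_horiz sq.flip
  have big' : IsPullback ((yon S).map (pullback.fst u u ≫ uV)) ((yon S).map (pullback.snd u u)) p
      ((yon S).map uV ≫ p) := by
    rw [← sq.w, Functor.map_comp]
    exact (isPullback_yon_map hR.flip).paste_horiz sq.flip
  obtain ⟨iR, hiR⟩ := (yon S).map_surjective (hRel.lift ((yon S).map (pullback.fst u u ≫ uV))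
    ((yon S).map (pullback.snd u u ≫ uV)) (by
      rw [big.w, Functor.map_comp, Category.assoc]))
  have hiRa : iR ≫ a = pullback.fst u u ≫ uV := (yon S).map_injective (by
    rw [Functor.map_comp, hiR, hRel.lift_fst])
  have hiRb : iR ≫ b = pullback.snd u u ≫ uV := (yon S).map_injective (by
    rw [Functor.map_comp, hiR, hRel.lift_snd])
  have sqa : IsPullback (pullback.fst u u) iR uV a := by
    refine (isPullback_of_yon_map (IsPullback.of_right (h₁₂ := (yon S).map b) ?_ ?_ hRel.flip)).flip
    · rw [← Functor.map_comp, hiRb]; exact big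
    · rw [← Functor.map_comp, ← Functor.map_comp, hiRa]
  have sqb : IsPullback (pullback.snd u u) iR uV b := by
    refine (isPullback_of_yon_map (IsPullback.of_right (h₁₂ := (yon S).map a) ?_ ?_ hRel)).flip
    · rw [← Functor.map_comp, hiRa]; exact big'
    · rw [← Functor.map_comp, ← Functor.map_comp, hiRb]
  have hR0 : IsAffine (pullback u u).left := by
    have hl := isPullback_left (IsPullback.of_hasPullback u u)
    exact IsAffine.of_isIso hl.isoPullback.hom
  have hthR : MoreMor.IsThickening iR.left :=
    ⟨MorphismProperty.of_isPullback (isPullback_left sqa) huV.1,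
      MorphismProperty.of_isPullback (isPullback_left sqa) huV.2⟩
  exact ⟨{ V := V, p := p, U := U, u := u, uV := uV, R := R, a := a, b := b, iR := iR, sq := sq,
           rel := hRel, sqa := sqa, sqb := sqb, etale := hpe, surj := hps, affV := ‹_›, affU := hU,
           affR0 := hR0, affR := isAffine_of_thick iR.left hthR,
           etu := hpe.2 j _ u sq.flip, suru := hps.2 j _ u sq.flip, thickU := huV, thickR := hthR,
           eta := hpe.2 p _ a hRel.flip, etb := hpe.2 p _ b hRel }, hP⟩

/-- A thickening of an affine scheme has a chart. -/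
theorem exists_chart {X : Sp S} (hX : IsAlgSpace X) {T : Over S} [IsAffine T.left] {j : (yon S).obj T ⟶ X}
    (hj : IsThickMor j) : Nonempty (Chart X j) := by
  obtain ⟨V, p, hV, hpe, hps⟩ := exists_chart_of_thick hX hj
  haveI := hV
  obtain ⟨U, f, uV, sq⟩ : ∃ (U : Over S) (f : (yon S).obj U ⟶ (yon S).obj T) (uV : U ⟶ V),
      IsPullback f ((yon S).map uV) j p := ⟨_, _, _, hj.1.isPullback p⟩
  obtain ⟨u, rfl⟩ := (yon S).map_surjective f
  exact ⟨(nonempty_chart hj hpe hps sq (P := fun {_ _} _ => True) trivial).choose⟩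

namespace Chart

variable {X : Sp S} {T : Over S} {j : (yon S).obj T ⟶ X} (c : Chart X j)

theorem range_subset {O : S.Opens} (hT : Set.range T.hom ⊆ (O : Set S)) : Set.range c.V.hom ⊆ (O : Set S) := by
  rintro _ ⟨x, rfl⟩
  obtain ⟨x₀, rfl⟩ := c.thickU.2.surj x
  rw [← Scheme.Hom.comp_apply, Over.w c.uV, ← Over.w c.u, Scheme.Hom.comp_apply]
  exact hT ⟨_, rfl⟩

/-- Points of the relation over a ring. -/
theorem exists_hom_iff (W : Over S) (x y : W ⟶ c.V) :
    (∃ z : W ⟶ c.R, z ≫ c.a = x ∧ z ≫ c.b = y) ↔ (yon S).map x ≫ c.p = (yon S).map y ≫ c.p := by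
  constructor
  · rintro ⟨z, rfl, rfl⟩
    simp [c.rel.w]
  · intro h
    obtain ⟨z, hz⟩ := (yon S).map_surjective (c.rel.lift _ _ h)
    exact ⟨z, (yon S).map_injective (by rw [Functor.map_comp, hz, c.rel.lift_fst]),
      (yon S).map_injective (by rw [Functor.map_comp, hz, c.rel.lift_snd])⟩

/-- Morphisms to the relation are determined by their projections. -/
theorem hom_ext {W : Over S} {z z' : W ⟶ c.R} (ha : z ≫ c.a = z' ≫ c.a) (hb : z ≫ c.b = z' ≫ c.b) : z = z' :=
  (yon S).map_injective (c.rel.hom_ext (by simp [← Functor.map_comp, ha]) (by simp [← Functor.map_comp, hb]))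

theorem hom_ext_scheme {W : Scheme.{u}} {z z' : W ⟶ c.R.left} (ha : z ≫ c.a.left = z' ≫ c.a.left)
    (hb : z ≫ c.b.left = z' ≫ c.b.left) : z = z' := by
  let W' : Over S := Over.mk (z ≫ c.R.hom)
  let Z : W' ⟶ c.R := Over.homMk z rfl
  let Z' : W' ⟶ c.R := Over.homMk z' (by
    show z' ≫ c.R.hom = z ≫ c.R.hom
    rw [← Over.w c.a, ← Category.assoc, ← ha, Category.assoc])
  exact congrArg CommaMorphism.left (c.hom_ext (z := Z) (z' := Z') (Over.OverMorphism.ext ha) (Over.OverMorphism.ext hb))

end Chart

end Groth.Agent.ThickAff
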