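import Groth.Agent.ThickAff.Chart
import Groth.Agent.ArtGrpLib.SqThick
import Groth.Agent.SchDesc.QAffAlg
/-!
Square zero thickenings of affine schemes by algebraic spaces are affine.
-/

set_option autoImplicit false
set_option backward.isDefEq.respectTransparency false
set_option backward.isDefEq.respectTransparency.types false

universe u

open CategoryTheory CategoryTheory.Limits AlgebraicGeometry Opposite TensorProduct

namespace Groth.Agent.ThickAff

open _root_.AlgSp Groth.Agent.ASp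

variable {S : Scheme.{u}}

/-- The point of an affine scheme given by a ring map. -/
noncomputable abbrev toPt {Y : Scheme.{u}} [IsAffine Y] {A : CommRingCat.{u}} (φ : Γ(Y, ⊤) ⟶ A) : Spec A ⟶ Y :=
  Spec.map φ ≫ Y.isoSpec.inv

theorem toPt_comp {Y Z : Scheme.{u}} [IsAffine Y] [IsAffine Z] {A : CommRingCat.{u}} (φ : Γ(Y, ⊤) ⟶ A)
    (k : Y ⟶ Z) : toPt φ ≫ k = toPt (k.appTop ≫ φ) := by
  rw [toPt, toPt, Category.assoc, ← Scheme.isoSpec_inv_naturality, Spec.map_comp, Category.assoc]

theorem toPt_injective {Y : Scheme.{u}} [IsAffine Y] {A : CommRingCat.{u}} {φ ψ : Γ(Y, ⊤) ⟶ A}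
    (h : toPt φ = toPt ψ) : φ = ψ := Spec.map_injective ((cancel_mono Y.isoSpec.inv).1 h)

theorem toPt_surjective {Y : Scheme.{u}} [IsAffine Y] {A : CommRingCat.{u}} (z : Spec A ⟶ Y) :
    ∃ φ : Γ(Y, ⊤) ⟶ A, toPt φ = z := by
  obtain ⟨φ, hφ⟩ := Spec.map_surjective (z ≫ Y.isoSpec.hom)
  exact ⟨φ, by rw [toPt, hφ, Category.assoc, Iso.hom_inv_id, Category.comp_id]⟩

theorem appTop_faithfullyFlat {X Y : Scheme.{u}} [IsAffine X] [IsAffine Y] (f : X ⟶ Y) [Flat f] [Surjective f] :
    f.appTop.hom.FaithfullyFlat :=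
  (Flat.flat_and_surjective_iff_faithfullyFlat_of_isAffine f).1 ⟨‹_›, ‹_›⟩

/-- Maps to a ring out of which a faithfully flat cocartesian square issues descend. -/
theorem exists_factor_of_pushout {G B A D : Type u} [CommRing G] [CommRing B] [CommRing A] [CommRing D]
    {f : B →+* A} (hf : f.FaithfullyFlat) {s t : A →+* D}
    (h : IsPushout (CommRingCat.ofHom f) (CommRingCat.ofHom f) (CommRingCat.ofHom s) (CommRingCat.ofHom t))
    (φ : G →+* A) (hφ : s.comp φ = t.comp φ) : ∃ ψ : G →+* B, f.comp ψ = φ := by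
  letI := f.toAlgebra
  haveI : Module.FaithfullyFlat B A := RingHom.faithfullyFlat_algebraMap_iff.1 (by rwa [f.algebraMap_toAlgebra])
  obtain ⟨e, hl, hr⟩ := Groth.Agent.SchDesc.exists_iso_tensor (R := B) (A := A) (A' := A) h
  have hmem : ∀ x, φ x ∈ f.range := fun x => by
    obtain ⟨y, hy⟩ := Groth.Agent.TorsorLift.mem_range_of_one_tmul (S := A) (Algebra.linearMap B A) (φ x)
      ⟨φ x ⊗ₜ 1, by
        rw [LinearMap.lTensor_tmul, Algebra.linearMap_apply, map_one]
        exact e.injective (by rw [hl, hr]; exact RingHom.congr_fun hφ x)⟩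
    exact ⟨y, hy⟩
  have hbij : Function.Bijective f.rangeRestrict :=
    ⟨fun a b hab => hf.injective (congrArg Subtype.val hab), f.rangeRestrict_surjective⟩
  let r : B ≃+* f.range := RingEquiv.ofBijective f.rangeRestrict hbij
  refine ⟨r.symm.toRingHom.comp (φ.codRestrict f.range hmem), RingHom.ext fun x => ?_⟩
  exact congrArg Subtype.val (r.apply_symm_apply (φ.codRestrict f.range hmem x))

/-- A square zero thickening of an affine scheme by an algebraic space is affine. -/
theorem exists_affine_of_sqZero {X : Space S} {O : S.Opens} (hO : IsAffineOpen O) {T : Over S} [IsAffine T.left]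
    (hT : Set.range T.hom ⊆ (O : Set S)) {j : (yon S).obj T ⟶ X.obj} (c : Chart X.obj j)
    (hsq : RingHom.ker c.uV.left.appTop.hom * RingHom.ker c.uV.left.appTop.hom = ⊥) :
    ∃ Q : Over S, IsAffine Q.left ∧ Nonempty ((yon S).obj Q ≅ X.obj) := by
  haveI := c.affV
  haveI := c.affU
  haveI := c.affR
  haveI := c.affR0
  haveI := c.etu
  haveI := c.suru
  haveI := c.eta
  haveI := c.etb
  haveI := c.thickU.1
  haveI := c.thickR.1
  let J : Ideal Γ(c.V.left, ⊤) := RingHom.ker c.uV.left.appTop.hom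
  have hsurjU : Function.Surjective c.uV.left.appTop.hom :=
    (IsClosedImmersion.isAffine_surjective_of_isAffine c.uV.left).2
  let eA : (Γ(c.V.left, ⊤) ⧸ J) ≃+* Γ(c.U.left, ⊤) := RingHom.quotientKerEquivOfSurjective hsurjU
  have heA : ∀ x, eA (Ideal.Quotient.mk J x) = c.uV.left.appTop.hom x := fun x => rfl
  let κ : Γ(T.left, ⊤) →+* (Γ(c.V.left, ⊤) ⧸ J) := eA.symm.toRingHom.comp c.u.left.appTop.hom
  letI : Algebra Γ(T.left, ⊤) (Γ(c.V.left, ⊤) ⧸ J) := κ.toAlgebra
  haveI : Module.FaithfullyFlat Γ(T.left, ⊤) (Γ(c.V.left, ⊤) ⧸ J) := by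
    rw [← RingHom.faithfullyFlat_algebraMap_iff, RingHom.algebraMap_toAlgebra]
    exact RingHom.FaithfullyFlat.respectsIso.1 _ eA.symm (appTop_faithfullyFlat c.u.left)
  haveI : CompactSpace ↥c.U.left := inferInstance
  have hpush := Groth.Agent.SchDesc.isPushout_appTop
    (isPullback_left (IsPullback.of_hasPullback c.u c.u))
  let r₁ : Γ(c.U.left, ⊤) →+* Γ((pullback c.u c.u).left, ⊤) := (pullback.fst c.u c.u).left.appTop.hom
  let r₂ : Γ(c.U.left, ⊤) →+* Γ((pullback c.u c.u).left, ⊤) := (pullback.snd c.u c.u).left.appTop.hom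
  have hpush' : IsPushout (CommRingCat.ofHom (algebraMap Γ(T.left, ⊤) (Γ(c.V.left, ⊤) ⧸ J)))
      (CommRingCat.ofHom (algebraMap Γ(T.left, ⊤) (Γ(c.V.left, ⊤) ⧸ J)))
      (CommRingCat.ofHom (r₁.comp eA.toRingHom)) (CommRingCat.ofHom (r₂.comp eA.toRingHom)) := by
    refine hpush.of_iso (Iso.refl _) eA.symm.toCommRingCatIso eA.symm.toCommRingCatIso (Iso.refl _)
      ?_ ?_ ?_ ?_
    · ext x; rfl
    · ext x; rfl
    · ext x
      exact (congrArg r₁ (eA.apply_symm_apply x)).symm
    · ext x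
      exact (congrArg r₂ (eA.apply_symm_apply x)).symm
  obtain ⟨e, hel, her⟩ := Groth.Agent.SchDesc.exists_iso_tensor hpush'
  letI : Algebra Γ(c.V.left, ⊤) Γ(c.R.left, ⊤) := c.a.left.appTop.hom.toAlgebra
  let π : Γ(c.R.left, ⊤) →+* (Γ(c.V.left, ⊤) ⧸ J) ⊗[Γ(T.left, ⊤)] (Γ(c.V.left, ⊤) ⧸ J) :=
    e.symm.toRingHom.comp c.iR.left.appTop.hom
  have hka : RingHom.ker c.iR.left.appTop.hom = J.map c.a.left.appTop.hom :=
    ker_appTop_of_isPullback (isPullback_left c.sqa)
  have hkb : RingHom.ker c.iR.left.appTop.hom = J.map c.b.left.appTop.hom :=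
    ker_appTop_of_isPullback (isPullback_left c.sqb)
  have hcomm : ∀ {W : Over S} (r : W ⟶ c.U) (k : W ⟶ c.R) (v : c.R ⟶ c.V), r ≫ c.uV = k ≫ v →
      ∀ x, r.left.appTop.hom (c.uV.left.appTop.hom x) = k.left.appTop.hom (v.left.appTop.hom x) := by
    intro W r k v h x
    have := congrArg (fun m : W ⟶ c.V => m.left.appTop.hom x) h
    simpa only [Over.comp_left, Scheme.Hom.comp_appTop, CommRingCat.hom_comp, RingHom.comp_apply] using this
  have hπs : ∀ x, π (c.a.left.appTop.hom x) = Ideal.Quotient.mk J x ⊗ₜ 1 := fun x => by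
    show e.symm (c.iR.left.appTop.hom _) = _
    rw [← hcomm _ _ _ c.sqa.w, RingEquiv.symm_apply_eq, hel]
    rfl
  have hπt : ∀ x, π (c.b.left.appTop.hom x) = 1 ⊗ₜ Ideal.Quotient.mk J x := fun x => by
    show e.symm (c.iR.left.appTop.hom _) = _
    rw [← hcomm _ _ _ c.sqb.w, RingEquiv.symm_apply_eq, her]
    rfl
  have H : Groth.Agent.ArtGrpLib.SqDatum (B₁ := Γ(T.left, ⊤)) (J := J) c.b.left.appTop.hom π := by
    refine ⟨fun x hx y hy => ?_, hka.symm.trans hkb, ?_, hπs, hπt, ?_, ?_, ?_, ?_, ?_⟩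
    · rw [← Ideal.mem_bot, ← hsq]; exact Ideal.mul_mem_mul hx hy
    · rw [← RingHom.flat_algebraMap_iff, RingHom.algebraMap_toAlgebra]
      exact (HasRingHomProperty.iff_of_isAffine (P := @Flat)).1 inferInstance
    · exact e.symm.surjective.comp (IsClosedImmersion.isAffine_surjective_of_isAffine c.iR.left).2
    · rw [show RingHom.ker π = RingHom.ker c.iR.left.appTop.hom from ?_, hka, RingHom.algebraMap_toAlgebra]
      ext x
      simp [π, RingHom.mem_ker]
    · intro R _ f g h1 h2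
      rw [RingHom.algebraMap_toAlgebra] at h1
      have := toPt_injective (A := CommRingCat.of R) (φ := CommRingCat.ofHom f) (ψ := CommRingCat.ofHom g)
        (c.hom_ext_scheme (by rw [toPt_comp, toPt_comp]; exact congrArg toPt (CommRingCat.hom_ext h1))
          (by rw [toPt_comp, toPt_comp]; exact congrArg toPt (CommRingCat.hom_ext h2)))
      exact congrArg CommRingCat.Hom.hom this
    · obtain ⟨z, hz1, hz2⟩ := (c.exists_hom_iff c.V (𝟙 _) (𝟙 _)).2 rfl
      refine ⟨z.left.appTop.hom, ?_, ?_⟩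
      · rw [RingHom.algebraMap_toAlgebra]
        exact congrArg (fun m : c.V ⟶ c.V => m.left.appTop.hom) hz1
      · exact congrArg (fun m : c.V ⟶ c.V => m.left.appTop.hom) hz2
    · intro R _ f g hfg
      rw [RingHom.algebraMap_toAlgebra] at hfg ⊢
      have e1 : toPt (CommRingCat.ofHom f) ≫ c.b.left = toPt (CommRingCat.ofHom g) ≫ c.a.left := by
        rw [toPt_comp, toPt_comp]; exact congrArg toPt (CommRingCat.hom_ext hfg)
      let W : Over S := Over.mk (toPt (CommRingCat.ofHom f) ≫ c.R.hom)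
      let x : W ⟶ c.R := Over.homMk (toPt (CommRingCat.ofHom f)) rfl
      let y : W ⟶ c.R := Over.homMk (toPt (CommRingCat.ofHom g)) (by
        show toPt (CommRingCat.ofHom g) ≫ c.R.hom = toPt (CommRingCat.ofHom f) ≫ c.R.hom
        rw [← Over.w c.a, ← Category.assoc, ← e1, Category.assoc, Over.w c.b, Over.w c.a])
      have exy : x ≫ c.b = y ≫ c.a := Over.OverMorphism.ext e1
      obtain ⟨z, hz1, hz2⟩ := (c.exists_hom_iff W (x ≫ c.a) (y ≫ c.b)).2 (by
        simp only [Functor.map_comp, Category.assoc, c.rel.w]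
        rw [← Functor.map_comp_assoc, exy, Functor.map_comp_assoc, c.rel.w])
      obtain ⟨φ, hφ⟩ := toPt_surjective z.left
      refine ⟨φ.hom, congrArg CommRingCat.Hom.hom (toPt_injective (φ := c.a.left.appTop ≫ φ)
        (ψ := c.a.left.appTop ≫ CommRingCat.ofHom f) ?_),
        congrArg CommRingCat.Hom.hom (toPt_injective (φ := c.b.left.appTop ≫ φ)
        (ψ := c.b.left.appTop ≫ CommRingCat.ofHom g) ?_)⟩
      · rw [← toPt_comp, ← toPt_comp, hφ, ← Over.comp_left, hz1]; rfl
      · rw [← toPt_comp, ← toPt_comp, hφ, ← Over.comp_left, hz2]; rfl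
  obtain ⟨B, _, f, hf, hpo⟩ := H.exists_base
  rw [RingHom.algebraMap_toAlgebra] at hpo
  -- the affine scheme over `S`
  obtain ⟨φ₀, hφ₀⟩ := Spec.map_surjective (IsOpenImmersion.lift hO.fromSpec (c.V.left.isoSpec.inv ≫ c.V.hom) (by
    rw [hO.range_fromSpec]
    rintro _ ⟨x, rfl⟩
    exact c.range_subset hT ⟨c.V.left.isoSpec.inv x, rfl⟩))
  have hV : Spec.map φ₀ ≫ hO.fromSpec = c.V.left.isoSpec.inv ≫ c.V.hom := by
    rw [hφ₀, IsOpenImmersion.lift_fac]
  have hst : φ₀ ≫ c.a.left.appTop = φ₀ ≫ c.b.left.appTop := by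
    apply Spec.map_injective
    rw [← cancel_mono hO.fromSpec]
    simp only [Spec.map_comp, Category.assoc, hV, Scheme.isoSpec_inv_naturality_assoc, Over.w]
  obtain ⟨ψ, hψ⟩ := exists_factor_of_pushout hf hpo φ₀.hom (congrArg CommRingCat.Hom.hom hst)
  let TS : Over S := Over.mk (Spec.map (CommRingCat.ofHom ψ) ≫ hO.fromSpec)
  let fV : c.V ⟶ TS := Over.homMk (c.V.left.isoSpec.hom ≫ Spec.map (CommRingCat.ofHom f)) (by
    show (c.V.left.isoSpec.hom ≫ Spec.map (CommRingCat.ofHom f)) ≫ Spec.map (CommRingCat.ofHom ψ) ≫ hO.fromSpec = _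
    rw [Category.assoc, ← Spec.map_comp_assoc,
      show CommRingCat.ofHom ψ ≫ CommRingCat.ofHom f = φ₀ from CommRingCat.hom_ext hψ, hV,
      Iso.hom_inv_id_assoc])
  have hl : IsPullback c.a.left c.b.left fV.left fV.left := by
    refine IsPullback.of_iso (isPullback_SpecMap_of_isPushout _ _ _ _ hpo) c.R.left.isoSpec.symm
      c.V.left.isoSpec.symm c.V.left.isoSpec.symm (Iso.refl _) ?_ ?_ ?_ ?_
    · exact Scheme.isoSpec_inv_naturality c.a.left
    · exact Scheme.isoSpec_inv_naturality c.b.left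
    · simp [fV]
    · simp [fV]
  have hfab : IsPullback c.a c.b fV fV := isPullback_over (Over.OverMorphism.ext hl.w) hl
  haveI hff : Flat fV.left ∧ Surjective fV.left := by
    obtain ⟨h1, h2⟩ := (flat_and_surjective_SpecMap_iff (CommRingCat.ofHom f)).2 hf
    exact ⟨inferInstanceAs (Flat (_ ≫ _)), inferInstanceAs (Surjective (_ ≫ _))⟩
  haveI := hff.1
  haveI := hff.2
  haveI : IsAffine TS.left := inferInstanceAs (IsAffine (Spec (CommRingCat.of B)))
  haveI : QuasiCompact fV.left := inferInstance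
  have hQ : (@Surjective ⊓ @Flat ⊓ @QuasiCompact : MorphismProperty Scheme.{u}) fV.left :=
    ⟨⟨‹_›, ‹_›⟩, ‹_›⟩
  have hfe : Etale fV.left := MorphismProperty.of_isPullback_of_descendsAlong hl hQ ‹Etale c.a.left›
  haveI : Epi c.p := epi_of_etale_surjective c.etale c.surj
  obtain ⟨g, hg⟩ := exists_desc_of_epi c.p c.rel ((yon S).map fV) (by
    rw [← Functor.map_comp, ← Functor.map_comp, hfab.w])
  haveI : Epi g := by
    haveI : Epi ((yon S).map fV) :=
      epi_of_etale_surjective (repWith_yon_map (P := @Etale) hfe) (repWith_yon_map (P := @Surjective) hff.2)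
    haveI : Epi (c.p ≫ g) := by rw [hg]; infer_instance
    exact epi_of_epi c.p g
  haveI : Mono g := by
    refine ⟨fun {F} x y hxy => ?_⟩
    let e1 := IsPullback.of_hasPullback x c.p
    haveI : Epi (pullback.fst x c.p) :=
      epi_of_etale_surjective (repWith_of_isPullback e1.flip c.etale) (repWith_of_isPullback e1.flip c.surj)
    let e2 := IsPullback.of_hasPullback (pullback.fst x c.p ≫ y) c.p
    haveI : Epi (pullback.fst (pullback.fst x c.p ≫ y) c.p) :=
      epi_of_etale_surjective (repWith_of_isPullback e2.flip c.etale) (repWith_of_isPullback e2.flip c.surj)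
    have hx : (pullback.fst (pullback.fst x c.p ≫ y) c.p ≫ pullback.fst x c.p) ≫ x =
        (pullback.fst (pullback.fst x c.p ≫ y) c.p ≫ pullback.snd x c.p) ≫ c.p := by
      simp only [Category.assoc, pullback.condition]
    have hy : (pullback.fst (pullback.fst x c.p ≫ y) c.p ≫ pullback.fst x c.p) ≫ y =
        pullback.snd (pullback.fst x c.p ≫ y) c.p ≫ c.p := by
      rw [Category.assoc, pullback.condition]
    rw [← cancel_epi (pullback.fst x c.p), ← cancel_epi (pullback.fst (pullback.fst x c.p ≫ y) c.p),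
      ← Category.assoc, ← Category.assoc, hx, hy]
    have key : (pullback.fst (pullback.fst x c.p ≫ y) c.p ≫ pullback.snd x c.p) ≫ (yon S).map fV =
        pullback.snd (pullback.fst x c.p ≫ y) c.p ≫ (yon S).map fV := by
      rw [← hg, ← Category.assoc, ← hx, ← Category.assoc, ← hy, Category.assoc _ x g, hxy, Category.assoc _ y g]
    have := ((isPullback_yon_map hfab).lift _ _ key) ≫= c.rel.w
    rw [← Category.assoc, ← Category.assoc, IsPullback.lift_fst, IsPullback.lift_snd] at this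
    exact this
  haveI : IsIso g := isIso_of_mono_of_epi g
  exact ⟨TS, inferInstance, ⟨(asIso g).symm⟩⟩

end Groth.Agent.ThickAff
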